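import Groth.Prelude.Def_K0Var

/-!
# Classes of Zariski locally trivial fibrations
-/

set_option autoImplicit false
set_option linter.all false
universe u

open CategoryTheory CategoryTheory.Limits AlgebraicGeometry TopologicalSpace

noncomputable section

namespace K0FibLib

variable {k : Type u} [Field k] {X Y F : Scheme.{u}} (pY : Y ⟶ Spec (CommRingCat.of k))
  (pF : F ⟶ Spec (CommRingCat.of k)) [LocallyOfFiniteType pF] [QuasiCompact pF]
  (f : X ⟶ Y) [LocallyOfFiniteType f] [QuasiCompact f]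

/-- the fibration is multiplicative on `W ⟶ Y` -/
def Mult {W : Scheme.{u}} (j : W ⟶ Y) : Prop :=
  ∀ [LocallyOfFiniteType (j ≫ pY)] [QuasiCompact (j ≫ pY)],
    K0Var.cl (pullback.snd f j ≫ j ≫ pY) = K0Var.cl (j ≫ pY) * K0Var.cl pF

theorem mult_of_trivial {W : Scheme.{u}} (j : W ⟶ Y) {U : Y.Opens}
    (e : (f ⁻¹ᵁ U).toScheme ≅ pullback (U.ι ≫ pY) pF)
    (he : e.hom ≫ pullback.fst (U.ι ≫ pY) pF = f ∣_ U) (hj : Set.range j ⊆ (U : Set Y)) :
    Mult pY pF f j := by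
  intro _ _
  let j' : W ⟶ U := IsOpenImmersion.lift U.ι j (by rw [Scheme.Opens.range_ι]; exact hj)
  have hj' : j' ≫ U.ι = j := IsOpenImmersion.lift_fac ..
  let m : pullback (j ≫ pY) pF ⟶ pullback (U.ι ≫ pY) pF :=
    pullback.lift (pullback.fst _ _ ≫ j') (pullback.snd _ _)
      (by rw [Category.assoc, reassoc_of% hj', pullback.condition])
  have h1 : IsPullback m (pullback.fst (j ≫ pY) pF) (pullback.fst (U.ι ≫ pY) pF) j' := by
    refine IsPullback.of_right ?_ (pullback.lift_fst ..) (IsPullback.of_hasPullback (U.ι ≫ pY) pF).flip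
    rw [pullback.lift_snd, reassoc_of% hj']
    exact (IsPullback.of_hasPullback (j ≫ pY) pF).flip
  have h2 : IsPullback (e.inv ≫ (f ⁻¹ᵁ U).ι) (pullback.fst (U.ι ≫ pY) pF) f U.ι := by
    refine IsPullback.of_iso (isPullback_morphismRestrict f U).flip e (Iso.refl _) (Iso.refl _) (Iso.refl _) ?_ ?_ ?_ ?_
    · simp
    · simp [he]
    · simp
    · simp
  have h3 : IsPullback (m ≫ e.inv ≫ (f ⁻¹ᵁ U).ι) (pullback.fst (j ≫ pY) pF) f j := by
    have := h1.paste_horiz h2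
    rwa [hj'] at this
  rw [← K0Var.cl_mul]
  refine (K0Var.cl_congr _ _ h3.isoPullback ?_).symm
  rw [h3.isoPullback_hom_snd_assoc]

theorem mult_of_scissor {W Z O : Scheme.{u}} (j : W ⟶ Y) (i : Z ⟶ W) [IsClosedImmersion i] (v : O ⟶ W)
    [IsOpenImmersion v] [QuasiCompact v] (hr : Set.range i = (Set.range v)ᶜ)
    (hZ : Mult pY pF f (i ≫ j)) (hO : Mult pY pF f (v ≫ j)) : Mult pY pF f j := by
  intro _ _
  haveI : LocallyOfFiniteType ((i ≫ j) ≫ pY) := by rw [Category.assoc]; infer_instance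
  haveI : QuasiCompact ((i ≫ j) ≫ pY) := by rw [Category.assoc]; infer_instance
  haveI : LocallyOfFiniteType ((v ≫ j) ≫ pY) := by rw [Category.assoc]; infer_instance
  haveI : QuasiCompact ((v ≫ j) ≫ pY) := by rw [Category.assoc]; infer_instance
  let q := pullback.snd f j
  let iz := pullback.fst q i
  let vo := pullback.fst q v
  have hr' : Set.range iz = (Set.range vo)ᶜ := by
    rw [Scheme.Pullback.range_fst, Scheme.Pullback.range_fst, hr, Set.preimage_compl]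
  haveI : LocallyOfFiniteType (q ≫ j ≫ pY) := inferInstance
  rw [K0Var.cl_scissor (q ≫ j ≫ pY) iz vo hr', K0Var.cl_scissor (j ≫ pY) i v hr, add_mul]
  have key : ∀ {T : Scheme.{u}} (t : T ⟶ W) [LocallyOfFiniteType ((t ≫ j) ≫ pY)] [QuasiCompact ((t ≫ j) ≫ pY)]
      [LocallyOfFiniteType (pullback.fst q t ≫ q ≫ j ≫ pY)] [QuasiCompact (pullback.fst q t ≫ q ≫ j ≫ pY)]
      [LocallyOfFiniteType (t ≫ j ≫ pY)] [QuasiCompact (t ≫ j ≫ pY)],
      Mult pY pF f (t ≫ j) →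
        K0Var.cl (pullback.fst q t ≫ q ≫ j ≫ pY) = K0Var.cl (t ≫ j ≫ pY) * K0Var.cl pF := by
    intro T t _ _ _ _ _ _ hT
    have e1 := (IsPullback.of_hasPullback q t).paste_horiz (IsPullback.of_hasPullback f j)
    rw [K0Var.cl_congr (t ≫ j ≫ pY) ((t ≫ j) ≫ pY) (Iso.refl _) (by simp), ← hT]
    refine K0Var.cl_congr _ _ e1.isoPullback ?_
    rw [e1.isoPullback_hom_snd_assoc, reassoc_of% (pullback.condition (f := q) (g := t))]
    simp [Category.assoc]
  rw [key i hZ, key v hO]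

variable [LocallyOfFiniteType pY] [QuasiCompact pY]

theorem mult_of_cover {n : ℕ} (U : Fin n → Y.Opens)
    (e : ∀ a, (f ⁻¹ᵁ U a).toScheme ≅ pullback ((U a).ι ≫ pY) pF)
    (he : ∀ a, (e a).hom ≫ pullback.fst ((U a).ι ≫ pY) pF = f ∣_ U a) :
    ∀ {W : Scheme.{u}} (j : W ⟶ Y) [LocallyOfFiniteType j] [QuasiCompact j],
      (∀ w, ∃ a, j w ∈ U a) → Mult pY pF f j := by
  induction n with
  | zero =>
    intro W j _ _ h _ _
    haveI : IsEmpty W := ⟨fun w => (h w).choose.elim0⟩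
    haveI : IsEmpty ↥(pullback f j) := ⟨fun w => IsEmpty.false (pullback.snd f j w)⟩
    rw [K0Var.cl_eq_gen_cl, K0Var.cl_eq_gen_cl (j ≫ pY)]
    haveI : IsEmpty (K0Var.Gen.mk (pullback f j) (pullback.snd f j ≫ j ≫ pY)).X := inferInstanceAs (IsEmpty ↥(pullback f j))
    haveI : IsEmpty (K0Var.Gen.mk W (j ≫ pY)).X := inferInstanceAs (IsEmpty W)
    rw [K0Var.Gen.cl_eq_zero_of_isEmpty, K0Var.Gen.cl_eq_zero_of_isEmpty, zero_mul]
  | succ n ih =>
    intro W j _ _ h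
    haveI : IsLocallyNoetherian W := LocallyOfFiniteType.isLocallyNoetherian (j ≫ pY)
    let O : W.Opens := j ⁻¹ᵁ U 0
    let I := Scheme.IdealSheafData.vanishingIdeal ⟨(O : Set W)ᶜ, O.2.isClosed_compl⟩
    have hsupp : Set.range I.subschemeι = (O : Set W)ᶜ := by
      rw [Scheme.IdealSheafData.range_subschemeι]; exact Scheme.IdealSheafData.coe_support_vanishingIdeal _
    intro _ _
    refine mult_of_scissor pY pF f j I.subschemeι O.ι (by rw [hsupp, Scheme.Opens.range_ι]) ?_ ?_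
    · refine ih (fun a => U a.succ) (fun a => e a.succ) (fun a => he a.succ) _ fun w => ?_
      have hw : j (I.subschemeι w) ∉ U 0 := hsupp.le ⟨w, rfl⟩
      obtain ⟨a, ha⟩ := h (I.subschemeι w)
      obtain ⟨b, rfl⟩ : ∃ b : Fin n, b.succ = a := Fin.exists_succ_eq.2 fun h0 => hw (h0 ▸ ha)
      exact ⟨b, ha⟩
    · exact mult_of_trivial pY pF f _ (e 0) (he 0) (by rintro _ ⟨w, rfl⟩; exact w.2)

theorem main (hf : ∀ y : Y, ∃ (U : Y.Opens) (e : (f ⁻¹ᵁ U).toScheme ≅ pullback (U.ι ≫ pY) pF),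
      y ∈ U ∧ e.hom ≫ pullback.fst (U.ι ≫ pY) pF = f ∣_ U) :
    K0Var.cl (f ≫ pY) = K0Var.cl pY * K0Var.cl pF := by
  choose U e hy he using hf
  haveI : CompactSpace Y := QuasiCompact.compactSpace_of_compactSpace pY
  obtain ⟨T, hT⟩ := isCompact_univ.elim_finite_subcover (fun y => (U y : Set Y)) (fun y => (U y).2)
    fun y _ => Set.mem_iUnion.2 ⟨y, hy y⟩
  have h := mult_of_cover pY pF f (fun a : Fin T.card => U (T.equivFin.symm a).1) (fun a => e _) (fun a => he _)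
    (𝟙 Y) (fun w => by
      obtain ⟨y, hyT, hw⟩ := Set.mem_iUnion₂.1 (hT (Set.mem_univ w))
      exact ⟨T.equivFin ⟨y, hyT⟩, by simpa using hw⟩)
  haveI : LocallyOfFiniteType (𝟙 Y ≫ pY) := by rw [Category.id_comp]; infer_instance
  haveI : QuasiCompact (𝟙 Y ≫ pY) := by rw [Category.id_comp]; infer_instance
  have e1 : K0Var.cl (f ≫ pY) = K0Var.cl (pullback.snd f (𝟙 Y) ≫ 𝟙 Y ≫ pY) :=
    (K0Var.cl_congr _ _ (asIso (pullback.fst f (𝟙 Y))) (by
      rw [asIso_hom, pullback.condition_assoc, Category.id_comp])).symm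
  rw [e1, h, K0Var.cl_congr (𝟙 Y ≫ pY) pY (Iso.refl _) (by simp)]

end K0FibLib
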